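import Groth.Agent.Pi1.K260.D1Plan2

/-!
# Part A of D1-ES: assembly

Coherent families of framed local solutions exist: the frames of a finite family of local solutions are twisted by the
cochain of `CobA`, extended étale locally from the closed fibre by `Ext`.
-/

set_option autoImplicit false
universe u

open CategoryTheory CategoryTheory.Limits AlgebraicGeometry IsLocalRing

namespace K418.D1PartA

open Groth.Agent.Etrest.StrictLoc K868.Bc K260.D1 K260.Dif

/-- A field valued point over the closed point factors through the residue field. -/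
theorem exists_fac (R : Type u) [CommRing R] [IsLocalRing R] {K : Type u} [Field K]
    (s : Spec (CommRingCat.of K) ⟶ Spec (CommRingCat.of R)) (h : s default = closedPoint R) :
    ∃ q : Spec (CommRingCat.of K) ⟶ Spec (CommRingCat.of (ResidueField R)), q ≫ resPt R = s := by
  obtain ⟨φ, rfl⟩ : ∃ φ : R →+* K, Spec.map (CommRingCat.ofHom φ) = s :=
    ⟨(Spec.preimage s).hom, by rw [CommRingCat.ofHom_hom, Spec.map_preimage]⟩
  have h1 : IsLocalHom φ := by
    constructor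
    intro a ha
    by_contra hna
    have h2 : a ∈ (closedPoint R).asIdeal := (mem_maximalIdeal a).2 hna
    rw [← h] at h2
    have h3 : φ a ∈ (default : ↥(Spec (CommRingCat.of K))).asIdeal := h2
    exact (default : ↥(Spec (CommRingCat.of K))).isPrime.ne_top (Ideal.eq_top_of_isUnit_mem _ h3 ha)
  refine ⟨Spec.map (CommRingCat.ofHom (ResidueField.lift φ)), ?_⟩
  rw [resPt, ← Spec.map_comp]
  congr 1

section Loc

variable {R : Type u} [CommRing R] [IsLocalRing R] {Z T B : Scheme.{u}} (p : Z ⟶ Spec (CommRingCat.of R))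
  (t : T ⟶ Z) (b : B ⟶ Z)

/-- The closed fibre of `T`, in `T`. -/
noncomputable abbrev ι : pullback (t ≫ p) (resPt R) ⟶ T := pullback.fst (t ≫ p) (resPt R)

instance : IsClosedImmersion (resPt R) :=
  IsClosedImmersion.spec_of_surjective _ IsLocalRing.residue_surjective

theorem range_resPt : Set.range (resPt R) = {closedPoint R} := by
  ext x
  constructor
  · rintro ⟨y, rfl⟩
    exact resPt_closedPoint R y
  · rintro rfl
    exact ⟨closedPoint (ResidueField R), resPt_closedPoint R _⟩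

theorem range_ι : Set.range (ι p t) = {y | p (t y) = closedPoint R} := by
  rw [ι, Scheme.Pullback.range_fst, range_resPt]
  rfl

/-- `Ts ×_Z B ⟶ T ×_Z B`. -/
noncomputable def cl : pullback (ι p t ≫ t) b ⟶ pullback t b :=
  pullback.lift (pullback.fst (ι p t ≫ t) b ≫ ι p t) (pullback.snd (ι p t ≫ t) b)
    (by rw [Category.assoc, pullback.condition])

theorem cl_eq : cl p t b = (pullbackRightPullbackFstIso t b (ι p t)).inv ≫ pullback.snd (ι p t) (pullback.fst t b) := by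
  apply pullback.hom_ext
  · rw [cl, pullback.lift_fst, Category.assoc, ← pullback.condition, pullbackRightPullbackFstIso_inv_fst_assoc]
  · rw [cl, pullback.lift_snd, Category.assoc, pullbackRightPullbackFstIso_inv_snd_snd]

instance : IsClosedImmersion (cl p t b) := by
  rw [cl_eq]
  infer_instance

theorem range_cl : Set.range (cl p t b) = {v | p (t (pullback.fst t b v)) = closedPoint R} := by
  rw [cl_eq, Scheme.Hom.comp_base]
  have h1 : Function.Surjective (pullbackRightPullbackFstIso t b (ι p t)).inv :=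
    (pullbackRightPullbackFstIso t b (ι p t)).inv.surjective
  ext v
  constructor
  · rintro ⟨x, rfl⟩
    have h2 : pullback.snd (ι p t) (pullback.fst t b) ((pullbackRightPullbackFstIso t b (ι p t)).inv x) ∈
        Set.range (pullback.snd (ι p t) (pullback.fst t b)) := ⟨_, rfl⟩
    rw [Scheme.Pullback.range_snd, Set.mem_preimage, range_ι] at h2
    exact h2
  · intro hv
    have h2 : v ∈ Set.range (pullback.snd (ι p t) (pullback.fst t b)) := by
      rw [Scheme.Pullback.range_snd, Set.mem_preimage, range_ι]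
      exact hv
    obtain ⟨x, rfl⟩ := h2
    obtain ⟨y, rfl⟩ := h1 x
    exact ⟨y, rfl⟩

/-- The closed fibre of `T ×_Z B`, as a space. -/
noncomputable def clHomeo : ↥(pullback (ι p t ≫ t) b) ≃ₜ
    ↥(pullback.snd t b ⁻¹' {y : B | p (b y) = closedPoint R}) :=
  (cl p t b).isClosedEmbedding.isEmbedding.toHomeomorph.trans (Homeomorph.setCongr (by
    rw [range_cl]
    ext v
    have h1 : b (pullback.snd t b v) = t (pullback.fst t b v) := by
      rw [← Scheme.Hom.comp_apply, ← pullback.condition, Scheme.Hom.comp_apply]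
    simp only [Set.mem_ofPred_eq, Set.mem_preimage, h1]))

theorem clHomeo_coe (v : ↥(pullback (ι p t ≫ t) b)) :
    ((clHomeo p t b v : ↥(pullback.snd t b ⁻¹' {y : B | p (b y) = closedPoint R})) : ↥(pullback t b)) =
      cl p t b v := rfl

theorem lift_cl {A : Scheme.{u}} (z : A ⟶ pullback (t ≫ p) (resPt R)) (l : A ⟶ B)
    (e : z ≫ ι p t ≫ t = l ≫ b) (e' : (z ≫ ι p t) ≫ t = l ≫ b) :
    pullback.lift z l e ≫ cl p t b = pullback.lift (z ≫ ι p t) l e' := by
  apply pullback.hom_ext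
  · rw [Category.assoc, cl, pullback.lift_fst, pullback.lift_fst_assoc, pullback.lift_fst]
  · rw [Category.assoc, cl, pullback.lift_snd, pullback.lift_snd, pullback.lift_snd]

variable {p t b}

/-- Extension of a function from the closed fibre, étale locally. -/
theorem exists_local (h₁ : Ext.{u}) (ht : IsIntegralHom t) {G : Type} [Finite G]
    (k : ↥(pullback (ι p t ≫ t) b) → G) (hk : IsLocallyConstant k) (y : B) (hy : p (b y) = closedPoint R) :
    ∃ (M : Scheme.{u}) (m : M ⟶ B) (_ : Etale m) (y' : M) (_ : m y' = y) (kM : ↥(pullback t (m ≫ b)) → G),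
      IsLocallyConstant kM ∧ ∀ (K : Type u) [Field K] (z : Spec (CommRingCat.of K) ⟶ pullback (t ≫ p) (resPt R))
        (l : Spec (CommRingCat.of K) ⟶ M) (e : z ≫ ι p t ≫ t = (l ≫ m) ≫ b)
        (e' : (z ≫ ι p t) ≫ t = l ≫ m ≫ b),
        kM (pullback.lift (z ≫ ι p t) l e' default) = k (pullback.lift z (l ≫ m) e default) := by
  have hF : IsClosed {y : B | p (b y) = closedPoint R} := by
    have h2 : IsClosed ({closedPoint R} : Set ↥(Spec (CommRingCat.of R))) := by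
      rw [← range_resPt]
      exact (resPt R).isClosedEmbedding.isClosed_range
    exact h2.preimage (b ≫ p).continuous
  obtain ⟨M, m, hm, y', hy', k', hk', hkk⟩ := h₁ (pullback.snd t b) inferInstance {y : B | p (b y) = closedPoint R} hF
    G (fun v => k ((clHomeo p t b).symm v)) (hk.comp_continuous (clHomeo p t b).symm.continuous) y hy
  let κ : pullback t (m ≫ b) ⟶ pullback (pullback.snd t b) m :=
    pullback.lift (pullback.lift (pullback.fst t (m ≫ b)) (pullback.snd t (m ≫ b) ≫ m)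
      (by rw [Category.assoc, pullback.condition])) (pullback.snd t (m ≫ b)) (by rw [pullback.lift_snd])
  refine ⟨M, m, hm, y', hy', fun v => k' (κ v), hk'.comp_continuous κ.continuous, ?_⟩
  intro K _ z l e e'
  have e1 : (z ≫ ι p t) ≫ t = (l ≫ m) ≫ b := by rw [Category.assoc, e]
  have h1 : pullback.lift (z ≫ ι p t) l e' ≫ κ =
      pullback.lift (pullback.lift (z ≫ ι p t) (l ≫ m) e1) l (by rw [pullback.lift_snd]) := by
    apply pullback.hom_ext
    · rw [Category.assoc, pullback.lift_fst, pullback.lift_fst]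
      apply pullback.hom_ext
      · rw [Category.assoc, pullback.lift_fst, pullback.lift_fst, pullback.lift_fst]
      · rw [Category.assoc, pullback.lift_snd, pullback.lift_snd, pullback.lift_snd_assoc]
    · rw [Category.assoc, pullback.lift_snd, pullback.lift_snd, pullback.lift_snd]
  have h2 : pullback.fst (pullback.snd t b) m (κ (pullback.lift (z ≫ ι p t) l e' default)) =
      cl p t b (pullback.lift z (l ≫ m) e default) := by
    rw [← Scheme.Hom.comp_apply, ← Scheme.Hom.comp_apply, ← Category.assoc, h1, pullback.lift_fst,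
      ← Scheme.Hom.comp_apply,
      lift_cl p t b z (l ≫ m) e e1]
  have h3 : pullback.fst (pullback.snd t b) m (κ (pullback.lift (z ≫ ι p t) l e' default)) ∈
      pullback.snd t b ⁻¹' {y : B | p (b y) = closedPoint R} := by
    rw [h2]
    exact (clHomeo p t b (pullback.lift z (l ≫ m) e default)).2
  refine (hkk _ h3).trans (congrArg k ?_)
  rw [Homeomorph.symm_apply_eq]
  exact Subtype.ext (h2.trans (clHomeo_coe p t b _).symm)

end Loc

theorem lift_congr {Z T M A : Scheme.{u}} {t : T ⟶ Z} {c : M ⟶ Z} {z z' : A ⟶ T} {l l' : A ⟶ M} (hz : z = z')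
    (hl : l = l') (e : z ≫ t = l ≫ c) (e' : z' ≫ t = l' ≫ c) :
    pullback.lift z l e = pullback.lift z' l' e' := by
  subst hz hl
  rfl

section Coh

variable {G : Type} [Group G] {X Z W T : Scheme.{u}} {j : X ⟶ Z} {w : W ⟶ X} {t : T ⟶ Z} {P₀ : FEt.Cat W}
  {ρ₀ : G →* Aut P₀} {B B' M M' : Scheme.{u}} {b : B ⟶ Z} {b' : B' ⟶ Z} {c : M ⟶ Z} {c' : M' ⟶ Z}

/-- `F₁` is the restriction of `F` along `m`, twisted by `k`. -/
structure IsTw (F : FSol t j w P₀ ρ₀ b) (F₁ : FSol t j w P₀ ρ₀ c) (m : M ⟶ B) (k : ↥(pullback t c) → G)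
    (r : F₁.S.P.left ⟶ F.S.P.left) : Prop where
  res : IsRes F.S F₁.S m r
  lc : IsLocallyConstant k
  tw : ∀ (K : Type u) [Field K] [IsAlgClosed K] (x : Spec (CommRingCat.of K) ⟶ X) (z : Spec (CommRingCat.of K) ⟶ T)
      (l : Spec (CommRingCat.of K) ⟶ M) (e : x ≫ j = l ≫ c) (e' : z ≫ t = l ≫ c) (f : x ≫ j = (l ≫ m) ≫ b)
      (f' : z ≫ t = (l ≫ m) ≫ b),
      (xp j t c x z l e e' ≫ F₁.τ) ≫ r =
        (xp j t b x z (l ≫ m) f f' ≫ F.τ) ≫ (F.S.ρ (k (pullback.lift z l e' default))⁻¹).hom.left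

variable {F : FSol t j w P₀ ρ₀ b} {F' : FSol t j w P₀ ρ₀ b'} {F₁ : FSol t j w P₀ ρ₀ c} {F₁' : FSol t j w P₀ ρ₀ c'}
  {m : M ⟶ B} {m' : M' ⟶ B'} {k : ↥(pullback t c) → G} {k' : ↥(pullback t c') → G}
  {r : F₁.S.P.left ⟶ F.S.P.left} {r' : F₁'.S.P.left ⟶ F'.S.P.left}

/-- The comparison of twisted restrictions, over an étale `N` where the functions agree. -/
theorem coh_of_eq (h₅ : ResDel.{u}) [Finite G] (hF : IsTw F F₁ m k r) (hF' : IsTw F' F₁' m' k' r') (C : Cmp F F')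
    {N : Scheme.{u}} (n : N ⟶ M) (n' : N ⟶ M') (u : N ⟶ C.M) (h : n' ≫ c' = n ≫ c) (hu : n ≫ m = u ≫ C.m)
    (hu' : n' ≫ m' = u ≫ C.m') (het : Etale (pullback.lift n n' h.symm))
    (hE : ∀ (K : Type u) [Field K] [IsAlgClosed K] (z : Spec (CommRingCat.of K) ⟶ T)
      (l : Spec (CommRingCat.of K) ⟶ N) (e : z ≫ t = (l ≫ n) ≫ c) (e' : z ≫ t = (l ≫ n') ≫ c')
      (e'' : z ≫ t = (l ≫ u) ≫ C.m ≫ b), C.H (pullback.lift z (l ≫ u) e'' default) =
        k' (pullback.lift z (l ≫ n') e' default) * (k (pullback.lift z (l ≫ n) e default))⁻¹) (y' : N) :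
    CohAt F₁ F₁' (pullback.lift n n' h.symm y') := by
  have q : (n ≫ m) ≫ b = n ≫ c := by rw [Category.assoc, hF.res.comp]
  have q' : (n' ≫ m') ≫ b' = n ≫ c := by rw [Category.assoc, hF'.res.comp, h]
  have hδ := C.del.comp' (h₂ := q) (h₂' := q') u hu hu'
  obtain ⟨δ₁, hδ₁, hδe⟩ := h₅ j w G P₀ ρ₀ b b' c c' F.S F'.S F₁.S F₁'.S m m' r r' hF.res hF'.res n n' (n ≫ c) q q' rfl h
    _ hδ
  refine ⟨N, n, n', h, het, y', rfl, δ₁, hδ₁, ?_⟩
  intro K _ _ x z l e e' f f'
  have g1 : x ≫ j = ((l ≫ n) ≫ m) ≫ b := by rw [e, Category.assoc _ m b, hF.res.comp]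
  have g2 : z ≫ t = ((l ≫ n) ≫ m) ≫ b := by rw [e', Category.assoc _ m b, hF.res.comp]
  have g1' : x ≫ j = ((l ≫ n') ≫ m') ≫ b' := by rw [f, Category.assoc _ m' b', hF'.res.comp]
  have g2' : z ≫ t = ((l ≫ n') ≫ m') ≫ b' := by rw [f', Category.assoc _ m' b', hF'.res.comp]
  have t1 := hF.tw K x z (l ≫ n) e e' g1 g2
  have t2 := hF'.tw K x z (l ≫ n') f f' g1' g2'
  have s1 : ((xp j t c x z (l ≫ n) e e' ≫ F₁.τ) ≫ r) ≫ F.S.P.hom ≫ pullback.snd j b = l ≫ n ≫ m := by
    rw [Category.assoc, hF.res.snd, ← Category.assoc F₁.S.P.hom, ← Category.assoc (_ ≫ F₁.τ), F₁.xp_τ_snd,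
      Category.assoc]
  have s1' : ((xp j t c' x z (l ≫ n') f f' ≫ F₁'.τ) ≫ r') ≫ F'.S.P.hom ≫ pullback.snd j b' = l ≫ n' ≫ m' := by
    rw [Category.assoc, hF'.res.snd, ← Category.assoc F₁'.S.P.hom, ← Category.assoc (_ ≫ F₁'.τ), F₁'.xp_τ_snd,
      Category.assoc]
  have s2 : ((xp j t c x z (l ≫ n) e e' ≫ F₁.τ) ≫ r) ≫ F.S.P.hom ≫ pullback.fst j b = x := by
    rw [Category.assoc, hF.res.fst, F₁.xp_τ_fst]
  have s2' : ((xp j t c' x z (l ≫ n') f f' ≫ F₁'.τ) ≫ r') ≫ F'.S.P.hom ≫ pullback.fst j b' = x := by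
    rw [Category.assoc, hF'.res.fst, F₁'.xp_τ_fst]
  rw [hδe K _ _ l (F₁.xp_τ_snd _ _ _ _ _) (F₁'.xp_τ_snd _ _ _ _ _)
    ((F₁.xp_τ_fst _ _ _ _ _).trans (F₁'.xp_τ_fst _ _ _ _ _).symm) s1 s1' (s2.trans s2'.symm)]
  -- the untwisted frames
  have v1 : (xp j t b x z ((l ≫ n) ≫ m) g1 g2 ≫ F.τ) ≫ F.S.P.hom ≫ pullback.snd j b = l ≫ n ≫ m := by
    rw [F.xp_τ_snd, Category.assoc]
  have v1' : (xp j t b' x z ((l ≫ n') ≫ m') g1' g2' ≫ F'.τ) ≫ F'.S.P.hom ≫ pullback.snd j b' = l ≫ n' ≫ m' := by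
    rw [F'.xp_τ_snd, Category.assoc]
  have v2 : (xp j t b x z ((l ≫ n) ≫ m) g1 g2 ≫ F.τ) ≫ F.S.P.hom ≫ pullback.fst j b =
      (xp j t b' x z ((l ≫ n') ≫ m') g1' g2' ≫ F'.τ) ≫ F'.S.P.hom ≫ pullback.fst j b' := by
    rw [F.xp_τ_fst, F'.xp_τ_fst]
  have s3 := s1
  have s3' := s1'
  have s4 := s2.trans s2'.symm
  rw [t1] at s3
  rw [t2] at s3'
  rw [t1, t2] at s4
  rw [dp_congr F.S F'.S (n ≫ m) q (n' ≫ m') q' t1 t2 rfl s1 s1' (s2.trans s2'.symm) s3 s3' s4]
  rw [hδ.act K _ _ l v1 v1' v2 _ _ s3 s3' s4]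
  -- the value on the untwisted frames
  have a1 : (l ≫ n) ≫ m = (l ≫ u) ≫ C.m := by rw [Category.assoc, hu, Category.assoc]
  have a1' : (l ≫ n') ≫ m' = (l ≫ u) ≫ C.m' := by rw [Category.assoc, hu', Category.assoc]
  have c1 : x ≫ j = ((l ≫ u) ≫ C.m) ≫ b := by rw [← a1]; exact g1
  have c2 : z ≫ t = ((l ≫ u) ≫ C.m) ≫ b := by rw [← a1]; exact g2
  have c1' : x ≫ j = ((l ≫ u) ≫ C.m') ≫ b' := by rw [← a1']; exact g1'
  have c2' : z ≫ t = ((l ≫ u) ≫ C.m') ≫ b' := by rw [← a1']; exact g2'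
  have c3 : x ≫ j = (l ≫ u) ≫ C.m ≫ b := c1.trans (Category.assoc _ _ _)
  have c4 : z ≫ t = (l ≫ u) ≫ C.m ≫ b := c2.trans (Category.assoc _ _ _)
  have d1 : xp j t b x z ((l ≫ n) ≫ m) g1 g2 ≫ F.τ = xp j t b x z ((l ≫ u) ≫ C.m) c1 c2 ≫ F.τ :=
    congrArg (· ≫ F.τ) (xp_congr rfl rfl a1 _ _ _ _)
  have d1' : xp j t b' x z ((l ≫ n') ≫ m') g1' g2' ≫ F'.τ = xp j t b' x z ((l ≫ u) ≫ C.m') c1' c2' ≫ F'.τ :=
    congrArg (· ≫ F'.τ) (xp_congr rfl rfl a1' _ _ _ _)
  have w1 := v1.trans (by rw [hu, Category.assoc] : l ≫ n ≫ m = (l ≫ u) ≫ C.m)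
  have w1' := v1'.trans (by rw [hu', Category.assoc] : l ≫ n' ≫ m' = (l ≫ u) ≫ C.m')
  have key : C.δ (dmg F.S F'.S (h := rfl) (h' := C.h) (h₂ := q) (h₂' := q') u hu hu'
      (dp F.S F'.S (n ≫ m) q (n' ≫ m') q' _ _ l v1 v1' v2 default)) = C.H (pullback.lift z (l ≫ u) c4 default) := by
    rw [← Scheme.Hom.comp_apply, dp_dmg F.S F'.S (h := rfl) (h' := C.h) (h₂ := q) (h₂' := q') u hu hu' _ _ l v1 v1' v2
      w1 w1', dp_congr F.S F'.S C.m rfl C.m' C.h d1 d1' rfl w1 w1' v2 (F.xp_τ_snd _ _ _ _ _) (F'.xp_τ_snd _ _ _ _ _)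
      ((F.xp_τ_fst _ _ _ _ _).trans (F'.xp_τ_fst _ _ _ _ _).symm),
      ← xp_xdp F F' C.m rfl C.m' C.h x z (l ≫ u) c3 c4 c1 c2 c1' c2', Scheme.Hom.comp_apply, ← C.eq,
      ← Scheme.Hom.comp_apply, xp_xq]
  have key' := hE K z l e' f' c4
  rw [key, key', inv_inv]
  group

/-- `M ×_Z M' ⟶ B ×_Z B'`. -/
noncomputable def gmap (hc : m ≫ b = c) (hc' : m' ≫ b' = c') : pullback c c' ⟶ pullback b b' :=
  pullback.lift (pullback.fst c c' ≫ m) (pullback.snd c c' ≫ m')
    (by rw [Category.assoc, hc, Category.assoc, hc', pullback.condition])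

/-- The comparison of twisted restrictions: the locus where the functions do not agree is removed. -/
theorem coh (h₅ : ResDel.{u}) [Finite G] (ht : IsIntegralHom t) (hF : IsTw F F₁ m k r) (hF' : IsTw F' F₁' m' k' r')
    (C : Cmp F F') {R : Type u} [CommRing R] [IsLocalRing R] (p : Z ⟶ Spec (CommRingCat.of R)) (y₁ : C.M)
    (y : ↥(pullback c c')) (hy : pullback.lift C.m C.m' C.h.symm y₁ = gmap hF.res.comp hF'.res.comp y)
    (hyc : p (c (pullback.fst c c' y)) = closedPoint R)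
    (hE : ∀ (K : Type u) [Field K] [IsAlgClosed K] (z : Spec (CommRingCat.of K) ⟶ T)
      (l : Spec (CommRingCat.of K) ⟶ M) (l' : Spec (CommRingCat.of K) ⟶ M') (l'' : Spec (CommRingCat.of K) ⟶ C.M)
      (_ : l ≫ m = l'' ≫ C.m) (_ : l' ≫ m' = l'' ≫ C.m') (e : z ≫ t = l ≫ c) (e' : z ≫ t = l' ≫ c')
      (e'' : z ≫ t = l'' ≫ C.m ≫ b), p (t (z default)) = closedPoint R → C.H (pullback.lift z l'' e'' default) =
        k' (pullback.lift z l' e' default) * (k (pullback.lift z l e default))⁻¹) :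
    CohAt F₁ F₁' y := by
  let g := gmap hF.res.comp hF'.res.comp
  let N₀ := pullback (pullback.lift C.m C.m' C.h.symm) g
  let u : N₀ ⟶ C.M := pullback.fst (pullback.lift C.m C.m' C.h.symm) g
  let v : N₀ ⟶ pullback c c' := pullback.snd (pullback.lift C.m C.m' C.h.symm) g
  have hC := C.et
  have hv : Etale v := inferInstanceAs (Etale (pullback.snd (pullback.lift C.m C.m' C.h.symm) g))
  have hcond : u ≫ pullback.lift C.m C.m' C.h.symm = v ≫ g := pullback.condition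
  have hu : (v ≫ pullback.fst c c') ≫ m = u ≫ C.m := by
    have h1 := congrArg (· ≫ pullback.fst b b') hcond
    simp only [Category.assoc, pullback.lift_fst, g, gmap] at h1
    rw [h1, Category.assoc]
  have hu' : (v ≫ pullback.snd c c') ≫ m' = u ≫ C.m' := by
    have h1 := congrArg (· ≫ pullback.snd b b') hcond
    simp only [Category.assoc, pullback.lift_snd, g, gmap] at h1
    rw [h1, Category.assoc]
  obtain ⟨y₀, hy₀, hy₀'⟩ := Scheme.Pullback.exists_preimage_pullback y₁ y hy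
  let d : N₀ ⟶ Z := (v ≫ pullback.fst c c') ≫ c
  have hd' : (v ≫ pullback.snd c c') ≫ c' = d := by
    change _ = (v ≫ pullback.fst c c') ≫ c
    rw [Category.assoc, Category.assoc, pullback.condition]
  have hd : u ≫ C.m ≫ b = d := by
    rw [← Category.assoc, ← hu, Category.assoc _ m b, hF.res.comp]
  let E : ↥(pullback t d) → G := fun a => (k' (tmap t (v ≫ pullback.snd c c') hd' a))⁻¹ *
    C.H (tmap t u hd a) * k (tmap t (v ≫ pullback.fst c c') rfl a)
  have hEl : IsLocallyConstant E :=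
    ((hF'.lc.comp_continuous (tmap t (v ≫ pullback.snd c c') hd').continuous).inv.mul
      (C.lc.comp_continuous (tmap t u hd).continuous)).mul
      (hF.lc.comp_continuous (tmap t (v ≫ pullback.fst c c') rfl).continuous)
  have hclosed : IsClosed (pullback.snd t d '' {a | E a ≠ 1}) := by
    have h1 : IsClosed {a | E a ≠ 1} := (hEl.isOpen_fiber 1).isClosed_compl
    exact (pullback.snd t d).isClosedMap _ h1
  have hEv : ∀ (K : Type u) [Field K] (z : Spec (CommRingCat.of K) ⟶ T) (l : Spec (CommRingCat.of K) ⟶ N₀)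
      (e : z ≫ t = l ≫ d) (f : z ≫ t = (l ≫ v ≫ pullback.fst c c') ≫ c)
      (f' : z ≫ t = (l ≫ v ≫ pullback.snd c c') ≫ c') (f'' : z ≫ t = (l ≫ u) ≫ C.m ≫ b),
      E (pullback.lift z l e default) = (k' (pullback.lift z (l ≫ v ≫ pullback.snd c c') f' default))⁻¹ *
        C.H (pullback.lift z (l ≫ u) f'' default) * k (pullback.lift z (l ≫ v ≫ pullback.fst c c') f default) := by
    intro K _ z l e f f' f''
    change (k' (tmap t (v ≫ pullback.snd c c') hd' (pullback.lift z l e default)))⁻¹ *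
      C.H (tmap t u hd (pullback.lift z l e default)) *
      k (tmap t (v ≫ pullback.fst c c') rfl (pullback.lift z l e default)) = _
    rw [← Scheme.Hom.comp_apply, lift_tmap _ _ _ _ _ f', ← Scheme.Hom.comp_apply, lift_tmap _ _ _ _ _ f'',
      ← Scheme.Hom.comp_apply, lift_tmap _ _ _ _ _ f]
  have hf : ∀ {K : Type u} [Field K] {z : Spec (CommRingCat.of K) ⟶ T} {l : Spec (CommRingCat.of K) ⟶ N₀}
      (_ : z ≫ t = l ≫ d), z ≫ t = (l ≫ v ≫ pullback.fst c c') ≫ c ∧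
        z ≫ t = (l ≫ v ≫ pullback.snd c c') ≫ c' ∧ z ≫ t = (l ≫ u) ≫ C.m ≫ b := by
    intro K _ z l e
    refine ⟨e.trans (Category.assoc _ _ _).symm, ?_, ?_⟩
    · rw [e, Category.assoc l, hd']
    · rw [e, Category.assoc l, hd]
  let N : N₀.Opens := ⟨(pullback.snd t d '' {a | E a ≠ 1})ᶜ, hclosed.isOpen_compl⟩
  have hyN : y₀ ∈ N := by
    rintro ⟨a, ha, ha'⟩
    refine ha ?_
    obtain ⟨K, _, _, κ, rfl⟩ := exists_pt a
    have e0 : (κ ≫ pullback.fst t d) ≫ t = (κ ≫ pullback.snd t d) ≫ d := by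
      rw [Category.assoc, Category.assoc, pullback.condition]
    have e1 : κ = pullback.lift (κ ≫ pullback.fst t d) (κ ≫ pullback.snd t d) e0 := by
      apply pullback.hom_ext
      · rw [pullback.lift_fst]
      · rw [pullback.lift_snd]
    obtain ⟨f, f', f''⟩ := hf e0
    have hcl : p (t ((κ ≫ pullback.fst t d) default)) = closedPoint R := by
      have h1 : t ((κ ≫ pullback.fst t d) default) = c (pullback.fst c c' y) := by
        have h3 : (κ ≫ pullback.snd t d) default = y₀ := ha'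
        rw [← Scheme.Hom.comp_apply, e0, Scheme.Hom.comp_apply, h3, ← hy₀']
        rfl
      rw [h1, hyc]
    have h2 := hE K (κ ≫ pullback.fst t d) ((κ ≫ pullback.snd t d) ≫ v ≫ pullback.fst c c')
      ((κ ≫ pullback.snd t d) ≫ v ≫ pullback.snd c c') ((κ ≫ pullback.snd t d) ≫ u)
      ((Category.assoc _ _ _).trans ((congrArg (_ ≫ ·) hu).trans (Category.assoc _ _ _).symm))
      ((Category.assoc _ _ _).trans ((congrArg (_ ≫ ·) hu').trans (Category.assoc _ _ _).symm))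
      f f' f'' hcl
    rw [e1, hEv K _ _ e0 f f' f'', h2]
    group
  have q1 : (N.ι ≫ v ≫ pullback.snd c c') ≫ c' = (N.ι ≫ v ≫ pullback.fst c c') ≫ c :=
    (Category.assoc _ _ _).trans ((congrArg (N.ι ≫ ·) hd').trans (Category.assoc _ _ _).symm)
  have q2 : pullback.lift (N.ι ≫ v ≫ pullback.fst c c') (N.ι ≫ v ≫ pullback.snd c c') q1.symm = N.ι ≫ v := by
    apply pullback.hom_ext
    · rw [pullback.lift_fst, Category.assoc]
    · rw [pullback.lift_snd, Category.assoc]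
  have hfin := coh_of_eq h₅ hF hF' C (N.ι ≫ v ≫ pullback.fst c c') (N.ι ≫ v ≫ pullback.snd c c') (N.ι ≫ u) q1
    ((Category.assoc _ _ _).trans ((congrArg (_ ≫ ·) hu).trans (Category.assoc _ _ _).symm))
    ((Category.assoc _ _ _).trans ((congrArg (_ ≫ ·) hu').trans (Category.assoc _ _ _).symm))
    (by rw [q2]; infer_instance) ?_ ⟨y₀, hyN⟩
  · rw [q2] at hfin
    have h1 : (N.ι ≫ v) ⟨y₀, hyN⟩ = y := (Scheme.Hom.comp_apply N.ι v ⟨y₀, hyN⟩).trans hy₀'
    exact h1 ▸ hfin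
  · intro K _ _ z l e e' e''
    have e0 : z ≫ t = (l ≫ N.ι) ≫ d := by
      rw [e]
      exact (congrArg (· ≫ c) (Category.assoc _ _ _).symm).trans (Category.assoc _ _ _)
    obtain ⟨f, f', f''⟩ := hf e0
    have h1 : E (pullback.lift z (l ≫ N.ι) e0 default) = 1 := by
      by_contra hne
      have h2 : (l ≫ N.ι) default ∈ N := by
        rw [Scheme.Hom.comp_apply]
        exact (l default).2
      refine h2 ⟨_, hne, ?_⟩
      rw [← Scheme.Hom.comp_apply, pullback.lift_snd]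
    rw [hEv K z _ e0 f f' f''] at h1
    have h3 := lift_congr (t := t) rfl (Category.assoc l N.ι u) f'' e''
    have h4 := lift_congr (t := t) rfl (Category.assoc l N.ι (v ≫ pullback.snd c c')) f' e'
    have h5 := lift_congr (t := t) rfl (Category.assoc l N.ι (v ≫ pullback.fst c c')) f e
    rw [h3, h4, h5] at h1
    have h6 : ∀ a b c : G, a⁻¹ * b * c = 1 → b = a * c⁻¹ := by
      intro a b c h
      rw [← mul_one a, ← h]
      group
    exact h6 _ _ _ h1

end Coh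

/-- **Part A** of D1-ES. -/
theorem partA (h₁ : Ext.{u}) (h₂ : CobA.{u}) (h₃ : CmpEx.{u}) (h₄ : ResTw.{u}) (h₅ : ResDel.{u}) : PartA.{u} := by
  intro R _ _ hR hRs X Z W T p j w t hp hj hjq hw hT G _ _ hL P₀ ρ₀ hP₀
  obtain ⟨n, B, b, F, k, hb, hcov, hk, hcob⟩ := h₂ R hR p j w t hp hj hjq hw hT G hL P₀ ρ₀ hP₀
  have key : ∀ z : {z : Z // p z = closedPoint R}, ∃ (i : Fin n) (M : Scheme.{u}) (m : M ⟶ B i) (y' : M)
      (kM : ↥(pullback t (m ≫ b i)) → G) (F₁ : FSol t j w P₀ ρ₀ (m ≫ b i)) (r : F₁.S.P.left ⟶ (F i).S.P.left),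
      Etale m ∧ (m ≫ b i) y' = z.1 ∧ IsTw (F i) F₁ m kM r ∧
      ∀ (K : Type u) [Field K] (z : Spec (CommRingCat.of K) ⟶ pullback (t ≫ p) (resPt R))
        (l : Spec (CommRingCat.of K) ⟶ M) (e : z ≫ ι p t ≫ t = (l ≫ m) ≫ b i)
        (e' : (z ≫ ι p t) ≫ t = l ≫ m ≫ b i),
        kM (pullback.lift (z ≫ ι p t) l e' default) = k i (pullback.lift z (l ≫ m) e default) := by
    rintro ⟨z, hz⟩
    obtain ⟨i, y, hy⟩ := hcov z hz
    obtain ⟨M, m, hm, y', hy', kM, hkM, hkk⟩ := exists_local h₁ hT.integral (k i) (hk i) y (by rw [hy, hz])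
    obtain ⟨F₁, r, hr, hr'⟩ := h₄ j w t G P₀ ρ₀ (b i) (F i) m (m ≫ b i) rfl kM hkM
    refine ⟨i, M, m, y', kM, F₁, r, hm, ?_, ⟨hr, hkM, hr'⟩, hkk⟩
    rw [Scheme.Hom.comp_apply, hy', hy]
  choose i M m y' kM F₁ r hm hy' hTw hkk using key
  refine ⟨{z : Z // p z = closedPoint R}, M, fun z => m z ≫ b (i z), F₁, ?_, ?_, ?_⟩
  · intro z
    have h1 := hm z
    have h2 := hb (i z)
    infer_instance
  · intro z hz
    exact ⟨⟨z, hz⟩, y' _, hy' ⟨z, hz⟩⟩
  · intro z z' y hy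
    have hbz := hb (i z)
    have hbz' := hb (i z')
    let g := gmap (hTw z).res.comp (hTw z').res.comp
    have hg : p (b (i z) (pullback.fst (b (i z)) (b (i z')) (g y))) = closedPoint R := by
      have h1 : g ≫ pullback.fst (b (i z)) (b (i z')) = pullback.fst _ _ ≫ m z := pullback.lift_fst _ _ _
      rw [← Scheme.Hom.comp_apply g, h1, Scheme.Hom.comp_apply, ← Scheme.Hom.comp_apply (m z)]
      exact hy
    obtain ⟨C, y₁, hy₁⟩ := h₃ R p j w t hj hjq hw hT G hL P₀ ρ₀ hP₀ (b (i z)) (b (i z')) (hb _) (hb _) (F (i z))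
      (F (i z')) (g y) hg
    refine coh h₅ hT.integral (hTw z) (hTw z') C p y₁ y hy₁ hy ?_
    intro K _ _ x l l' l'' a a' e e' e'' hx
    obtain ⟨q, hq⟩ := exists_fac R (x ≫ t ≫ p) hx
    let x₁ : Spec (CommRingCat.of K) ⟶ pullback (t ≫ p) (resPt R) := pullback.lift x q hq.symm
    have hx₁ : x₁ ≫ ι p t = x := pullback.lift_fst _ _ _
    have f1 : x₁ ≫ ι p t ≫ t = (l'' ≫ C.m) ≫ b (i z) := by
      rw [← Category.assoc, hx₁, e'', Category.assoc]
    have f2 : x₁ ≫ ι p t ≫ t = (l'' ≫ C.m') ≫ b (i z') := by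
      rw [← Category.assoc, hx₁, e'', Category.assoc, C.h]
    have f3 : (x₁ ≫ ι p t) ≫ t = l'' ≫ C.m ≫ b (i z) := by rw [hx₁, e'']
    have g1 : x₁ ≫ ι p t ≫ t = (l ≫ m z) ≫ b (i z) := by rw [a]; exact f1
    have g2 : (x₁ ≫ ι p t) ≫ t = l ≫ m z ≫ b (i z) := by rw [hx₁, e]
    have g1' : x₁ ≫ ι p t ≫ t = (l' ≫ m z') ≫ b (i z') := by rw [a']; exact f2
    have g2' : (x₁ ≫ ι p t) ≫ t = l' ≫ m z' ≫ b (i z') := by rw [hx₁, e']
    have r1 := hcob (i z) (i z') C K x₁ l'' f1 f2 f3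
    have r2 := hkk z K x₁ l g1 g2
    have r3 := hkk z' K x₁ l' g1' g2'
    rw [lift_congr (t := t) hx₁ rfl f3 e''] at r1
    rw [lift_congr (t := t) hx₁ rfl g2 e] at r2
    rw [lift_congr (t := t) hx₁ rfl g2' e'] at r3
    rw [r1, r2, r3, lift_congr (t := ι p t ≫ t) rfl a g1 f1, lift_congr (t := ι p t ≫ t) rfl a' g1' f2]

end K418.D1PartA
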